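import Mathlib

/-!
Kernels of morphisms between closed subschemes.
-/

universe u

open CategoryTheory AlgebraicGeometry

namespace Groth.Agent.ComplFormal

variable {X : Scheme.{u}}

theorem quasiCompact_of_fac {K L : X.IdealSheafData} (g : K.subscheme ⟶ L.subscheme)
    (hg : g ≫ L.subschemeι = K.subschemeι) : IsClosedImmersion g := by
  have : IsClosedImmersion (g ≫ L.subschemeι) := by rw [hg]; infer_instance
  exact IsClosedImmersion.of_comp g L.subschemeι

theorem ker_ideal_of_fac {K L : X.IdealSheafData} (g : K.subscheme ⟶ L.subscheme) [QuasiCompact g]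
    (hg : g ≫ L.subschemeι = K.subschemeι) (U : X.affineOpens) :
    g.ker.ideal ⟨L.subschemeι ⁻¹ᵁ U.1, U.2.preimage L.subschemeι⟩ =
      (K.ideal U).map (L.subschemeι.app U.1).hom := by
  calc g.ker.ideal ⟨L.subschemeι ⁻¹ᵁ U.1, U.2.preimage L.subschemeι⟩
      = ((RingHom.ker (g.app (L.subschemeι ⁻¹ᵁ U.1)).hom).comap (L.subschemeι.app U.1).hom).map
          (L.subschemeι.app U.1).hom := by
        rw [Ideal.map_comap_of_surjective _ (L.subschemeι_app_surjective U), Scheme.Hom.ker_apply]
    _ = ((g ≫ L.subschemeι).ker.ideal U).map (L.subschemeι.app U.1).hom := by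
        rw [Scheme.Hom.ker_apply (g ≫ L.subschemeι) U]
        exact congrArg (Ideal.map _) (RingHom.comap_ker (g.app (L.subschemeι ⁻¹ᵁ U.1)).hom (L.subschemeι.app U.1).hom)
    _ = _ := by rw [hg, Scheme.IdealSheafData.ker_subschemeι]

/-- The kernel of the inclusion of the closed subscheme of `K₀ ^ m` is the `m`-th power of that of `K₀`. -/
theorem ker_eq_ker_pow {K₀ K L : X.IdealSheafData} (i : K.subscheme ⟶ L.subscheme) (g : K₀.subscheme ⟶ L.subscheme)
    (hi : i ≫ L.subschemeι = K.subschemeι) (hg : g ≫ L.subschemeι = K₀.subschemeι) (m : ℕ) (hK : K = K₀ ^ m) :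
    i.ker = g.ker ^ m := by
  have := quasiCompact_of_fac i hi
  have := quasiCompact_of_fac g hg
  refine Scheme.IdealSheafData.ext_of_iSup_eq_top
    (fun U : X.affineOpens => (⟨L.subschemeι ⁻¹ᵁ U.1, U.2.preimage _⟩ : L.subscheme.affineOpens)) ?_ fun U => ?_
  · refine eq_top_iff.2 fun x _ => ?_
    obtain ⟨U, hU, hxU, -⟩ := exists_isAffineOpen_mem_and_subset (X := X) (x := L.subschemeι x) (U := ⊤) trivial
    exact TopologicalSpace.Opens.mem_iSup.2 ⟨⟨U, hU⟩, hxU⟩
  · rw [Scheme.IdealSheafData.ideal_pow, Pi.pow_apply, ker_ideal_of_fac g hg U, ker_ideal_of_fac i hi U,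
      ← Ideal.map_pow, hK, Scheme.IdealSheafData.ideal_pow, Pi.pow_apply]

theorem surjective_of_fac {K L : X.IdealSheafData} (g : K.subscheme ⟶ L.subscheme)
    (hg : g ≫ L.subschemeι = K.subschemeι) (h : K.support = L.support) : Function.Surjective g := by
  intro x
  have hx : L.subschemeι x ∈ Set.range K.subschemeι := by
    rw [Scheme.IdealSheafData.range_subschemeι, h, ← Scheme.IdealSheafData.range_subschemeι]
    exact Set.mem_range_self x
  obtain ⟨y, hy⟩ := hx
  refine ⟨y, L.subschemeι.isEmbedding.injective ?_⟩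
  rw [← hy, ← hg]
  rfl

theorem isLocallyNoetherian_subscheme [IsLocallyNoetherian X] (K : X.IdealSheafData) :
    IsLocallyNoetherian K.subscheme :=
  LocallyOfFiniteType.isLocallyNoetherian K.subschemeι

end Groth.Agent.ComplFormal
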